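import Cfsg.Agent.H464.RM.ZC
import Cfsg.Agent.H555.RM.Tools
import Cfsg.Agent.J2Type.FiveFus
import Cfsg.Agent.KFacts.J2.Facts
import Cfsg.Agent.H724.IMJThree
import Cfsg.Agent.NotCT.Orders
import Cfsg.Agent.H377.SporRow
import Cfsg.Agent.H568.RowTools
import Cfsg.Agent.H555.RV.Crit

/-!
# S3849, P11: `J2`, `J3`, the pair `{3, 5}` (helper153)
-/

set_option autoImplicit false

namespace Cfsg.Agent.H153.RM

open Cfsg Subgroup Cfsg.Agent.H571.DExt Cfsg.Agent.H555.RV Cfsg.Agent.H464.RM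
open Cfsg.Agent.H555.PiBS (fix_card)
open Cfsg.Agent.H171.Odd (Inv1)

universe u

variable {S : Type u} [Group S] [Finite S]

theorem no_j2_3_5 (h : Spor.IsoJ2 S) : ¬ Dom ({3, 5} : Set ℕ) S := by
  have hc := NotCT.Orders.j2 h
  have hf : Fact (Nat.Prime 5) := ⟨by norm_num⟩
  obtain ⟨z, u, Q, v, ρ, D⟩ := KFacts.J2.Facts.exists_dat_of h
  refine nd_of (no_norm (a := 3) (b := 2) (m := 896) Nat.prime_three (by norm_num) (by rw [hc]; norm_num) (by norm_num)
    (by norm_num) ?_ ?_)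
  · intro k h1 h2
    interval_cases k <;> norm_num
  · intro P hP hPi
    have h1 := (J2Type.FiveFus.sylow_five D.F (hP.toSylow hPi)).2.2.1
    have h2 : ((hP.toSylow hPi : Sylow 5 S) : Subgroup S) = P := rfl
    rw [h2] at h1
    rw [h1]
    norm_num

/-- in `J3`, an element of order 3 which commutes with an element of order 5 has a centralizer of order 1080 -/
theorem j3_cent (h : Spor.IsoJ3 S) {c x : S} (hc : orderOf c = 3) (hx : orderOf x = 5) (hcx : c * x = x * c) :
    Nat.card (centralizer ({c} : Set S)) = 1080 ∧ Nat.card (centralizer ({x} : Set S)) = 30 := by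
  have hcS := H724.IMJThree.card_j3 h
  have hf3 : Fact (Nat.Prime 3) := ⟨Nat.prime_three⟩
  have hf5 : Fact (Nat.Prime 5) := ⟨by norm_num⟩
  obtain ⟨y1, hy1, hC1⟩ := H724.IMJThree.exists_five h
  have hx30 : Nat.card (centralizer ({x} : Set S)) = 30 := by
    rw [card_cent_all (by norm_num) (show Nat.card S = 5 * 10046592 by rw [hcS]) (by norm_num) hy1 hx, hC1]
  refine ⟨?_, hx30⟩
  obtain ⟨c0, hc0, -, hC0⟩ := CpAutJThree.exc h
  obtain ⟨⟨y0, hyc⟩, hy0⟩ := exists_prime_orderOf_dvd_card' (G := centralizer ({c0} : Set S)) 5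
    (by rw [hC0]; norm_num)
  rw [Subgroup.orderOf_mk] at hy0
  obtain ⟨P, hP⟩ := H377.SporRow.exists_cyclic (K := S) (p := 5) (by rw [hcS]; norm_num)
  obtain ⟨s, ⟨i, hi⟩, -⟩ := H568.conj_of_cyclic P hP hy0 x hx
  have hi' : (s * y0 * s⁻¹) ^ i = x := hi
  have h1 : Commute (s * c0 * s⁻¹) (s * y0 * s⁻¹) := by
    have h2 : y0 * c0 = c0 * y0 := mem_centralizer_singleton_iff.1 hyc
    show s * c0 * s⁻¹ * (s * y0 * s⁻¹) = s * y0 * s⁻¹ * (s * c0 * s⁻¹)
    calc s * c0 * s⁻¹ * (s * y0 * s⁻¹) = s * (c0 * y0) * s⁻¹ := by group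
      _ = s * (y0 * c0) * s⁻¹ := by rw [h2]
      _ = _ := by group
  have h2 : Commute (s * c0 * s⁻¹) x := by
    rw [← hi']
    exact h1.zpow_right i
  have ho : orderOf (s * c0 * s⁻¹) = 3 := by rw [H568.orderOf_conj', hc0]
  -- in the centralizer of `x`
  let C := centralizer ({x} : Set S)
  obtain ⟨P', hP'⟩ := H377.SporRow.exists_cyclic (K := C) (p := 3) (by rw [hx30]; norm_num)
  obtain ⟨⟨g, hg⟩, ⟨j, hj⟩, -⟩ := H568.conj_of_cyclic P' hP'
    (x := (⟨s * c0 * s⁻¹, mem_centralizer_singleton_iff.2 h2.eq⟩ : C)) (by rw [Subgroup.orderOf_mk, ho])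
    (⟨c, mem_centralizer_singleton_iff.2 hcx⟩ : C) (by rw [Subgroup.orderOf_mk, hc])
  have hj' : (g * (s * c0 * s⁻¹) * g⁻¹) ^ j = c := congrArg Subtype.val hj
  have hgs : g * (s * c0 * s⁻¹) * g⁻¹ = (g * s) * c0 * (g * s)⁻¹ := by group
  rw [hgs] at hj'
  have ho' : orderOf ((g * s) * c0 * (g * s)⁻¹) = 3 := by rw [H568.orderOf_conj', hc0]
  have h3 : centralizer ({c} : Set S) = centralizer ({(g * s) * c0 * (g * s)⁻¹} : Set S) := by
    have h4 : zpowers c = zpowers ((g * s) * c0 * (g * s)⁻¹) := by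
      apply eq_of_le_of_card_ge
      · rw [zpowers_le, ← hj']
        exact zpow_mem (mem_zpowers _) j
      · rw [Nat.card_zpowers, Nat.card_zpowers, hc, ho']
    have h5 : ∀ a b : S, a ∈ zpowers b → centralizer ({b} : Set S) ≤ centralizer ({a} : Set S) := by
      intro a b hab w hw
      obtain ⟨k, rfl⟩ := mem_zpowers_iff.1 hab
      rw [mem_centralizer_singleton_iff] at hw ⊢
      exact ((show Commute w b from hw).zpow_right k).eq
    apply le_antisymm
    · apply h5
      rw [h4]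
      exact mem_zpowers _
    · apply h5
      rw [← h4]
      exact mem_zpowers _
  have h6 : centralizer ({(g * s) * c0 * (g * s)⁻¹} : Set S) =
      (centralizer ({c0} : Set S)).map (MulAut.conj (g * s)).toMonoidHom := by
    ext w
    rw [mem_centralizer_singleton_iff, mem_map]
    constructor
    · intro hw
      refine ⟨(g * s)⁻¹ * w * (g * s), ?_, ?_⟩
      · rw [mem_centralizer_singleton_iff]
        calc (g * s)⁻¹ * w * (g * s) * c0 = (g * s)⁻¹ * (w * ((g * s) * c0 * (g * s)⁻¹)) * (g * s) := by group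
          _ = (g * s)⁻¹ * ((g * s) * c0 * (g * s)⁻¹ * w) * (g * s) := by rw [hw]
          _ = _ := by group
      · show (g * s) * ((g * s)⁻¹ * w * (g * s)) * (g * s)⁻¹ = w
        group
    · rintro ⟨v, hv, rfl⟩
      have hv' := mem_centralizer_singleton_iff.1 hv
      show (g * s) * v * (g * s)⁻¹ * ((g * s) * c0 * (g * s)⁻¹) = (g * s) * c0 * (g * s)⁻¹ * ((g * s) * v * (g * s)⁻¹)
      calc (g * s) * v * (g * s)⁻¹ * ((g * s) * c0 * (g * s)⁻¹) = (g * s) * (v * c0) * (g * s)⁻¹ := by group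
        _ = (g * s) * (c0 * v) * (g * s)⁻¹ := by rw [hv']
        _ = _ := by group
  rw [h3, h6, card_map_of_injective (MulAut.conj (g * s)).injective, hC0]

theorem j3_five (h : Spor.IsoJ3 S) {x : S} (hx : orderOf x = 5) : Nat.card (centralizer ({x} : Set S)) = 30 := by
  have hcS := H724.IMJThree.card_j3 h
  obtain ⟨y1, hy1, hC1⟩ := H724.IMJThree.exists_five h
  rw [card_cent_all (by norm_num) (show Nat.card S = 5 * 10046592 by rw [hcS]) (by norm_num) hy1 hx, hC1]

theorem no_j3_3_5 (h : Spor.IsoJ3 S) : ¬ Dom ({3, 5} : Set ℕ) S := by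
  have hcS := H724.IMJThree.card_j3 h
  have hf3 : Fact (Nat.Prime 3) := ⟨Nat.prime_three⟩
  have hf5 : Fact (Nat.Prime 5) := ⟨by norm_num⟩
  have hI : Inv1 3 5 S := by
    refine Cfsg.Agent.H555.RM.inv1_small (a := 5) (b := 1) (c := 1) Nat.prime_three (by norm_num) (by norm_num)
      (by rw [hcS]; norm_num) (by rw [hcS]; norm_num) (fun x hx => ?_) ?_
    · rw [j3_five h hx]
      norm_num
    · simp
  refine nd_of fun K hK => ?_
  obtain ⟨Q, hQ, hQc⟩ := sylow_of_inv (a := 5) (m := 41344) Nat.prime_three (by norm_num) (by norm_num)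
    (by rw [hcS]; norm_num) (by norm_num) (by norm_num) hI (by norm_num) hK
  obtain ⟨⟨x, hxK⟩, hx⟩ := exists_prime_orderOf_dvd_card' (G := K) 5 (by rw [hQ.card]; norm_num)
  rw [Subgroup.orderOf_mk] at hx
  have hx5 : x ^ 5 = 1 := by rw [← hx, pow_orderOf_eq_one]
  have hxQ := hQ.nrm hxK
  have hQ3 : IsPGroup 3 Q := hQ.sgp
  -- the fixed points of `x`
  have hA := fix_card (by norm_num) hx5 Q hxQ
  obtain ⟨i, hi⟩ := (hQ3.to_le (inf_le_left : Q ⊓ centralizer {x} ≤ Q)).exists_card_eq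
  have hi1 : i = 1 := by
    have h1 : Nat.card (Q ⊓ centralizer {x} : Subgroup S) ∣ 30 := by
      rw [← j3_five h hx]
      exact card_dvd_of_le inf_le_right
    rw [hQc, hi] at hA
    rw [hi] at h1
    have h2 : i ≤ 1 := by
      by_contra hlt
      have h3 : 3 ^ 2 ∣ 30 := (pow_dvd_pow 3 (by omega)).trans h1
      norm_num at h3
    interval_cases i
    · exact absurd hA (by decide)
    · rfl
  rw [hi1, pow_one] at hi
  obtain ⟨⟨c, hcA⟩, hc⟩ := exists_prime_orderOf_dvd_card' (G := (Q ⊓ centralizer {x} : Subgroup S)) 3 (by rw [hi])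
  rw [Subgroup.orderOf_mk] at hc
  have hcx : c * x = x * c := mem_centralizer_singleton_iff.1 (mem_inf.1 hcA).2
  have hcQ : c ∈ Q := (mem_inf.1 hcA).1
  have hAc : (Q ⊓ centralizer {x} : Subgroup S) = zpowers c := by
    symm
    apply eq_of_le_of_card_ge ((zpowers_le).2 hcA)
    rw [hi, Nat.card_zpowers, hc]
  -- the centralizer of `c` in `Q`
  have hxD : x ∈ normalizer ((Q ⊓ centralizer {c} : Subgroup S) : Set S) := by
    apply mem_normalizer_fintype
    rintro y hy
    obtain ⟨hy1, hy2⟩ := mem_inf.1 hy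
    refine mem_inf.2 ⟨(mem_normalizer_iff.1 hxQ y).1 hy1, ?_⟩
    rw [mem_centralizer_singleton_iff] at hy2 ⊢
    have e1 : Commute y c := hy2
    have e2 : Commute x c := hcx.symm
    exact ((e2.mul_left e1).mul_left e2.inv_left).eq
  have hD := fix_card (by norm_num) hx5 _ hxD
  have hDx : (Q ⊓ centralizer {c} ⊓ centralizer {x} : Subgroup S) = zpowers c := by
    rw [← hAc]
    apply le_antisymm
    · exact le_inf (inf_le_left.trans inf_le_left) inf_le_right
    · rw [hAc, zpowers_le]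
      exact mem_inf.2 ⟨mem_inf.2 ⟨hcQ, mem_centralizer_singleton_iff.2 rfl⟩, mem_centralizer_singleton_iff.2 hcx⟩
  obtain ⟨j, hj⟩ := (hQ3.to_le (inf_le_left : Q ⊓ centralizer {c} ≤ Q)).exists_card_eq
  have hj1 : j = 1 := by
    have h1 : Nat.card (Q ⊓ centralizer {c} : Subgroup S) ∣ 1080 := by
      rw [← (j3_cent h hc hx hcx).1]
      exact card_dvd_of_le inf_le_right
    rw [hDx, Nat.card_zpowers, hc, hj] at hD
    rw [hj] at h1
    have h2 : j ≤ 3 := by
      by_contra hlt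
      have h3 : 3 ^ 4 ∣ 1080 := (pow_dvd_pow 3 (by omega)).trans h1
      norm_num at h3
    interval_cases j
    · exact absurd hD (by decide)
    · rfl
    · exact absurd hD (by decide)
    · exact absurd hD (by decide)
  rw [hj1, pow_one] at hj
  have hDc : (Q ⊓ centralizer {c} : Subgroup S) = zpowers c := by
    symm
    apply eq_of_le_of_card_ge
    · rw [zpowers_le]
      exact mem_inf.2 ⟨hcQ, mem_centralizer_singleton_iff.2 rfl⟩
    · rw [hj, Nat.card_zpowers, hc]
  -- the centre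
  have hnt : Nontrivial Q := by
    rw [← Finite.one_lt_card_iff_nontrivial, hQc]
    norm_num
  have := hQ3.center_nontrivial
  obtain ⟨⟨w, hwZ⟩, hw1⟩ := exists_ne (1 : center Q)
  have hwc : ∀ y ∈ Q, y * (w : S) = w * y := fun y hy => congrArg Subtype.val (mem_center_iff.1 hwZ ⟨y, hy⟩)
  have hwD : (w : S) ∈ zpowers c := by
    rw [← hDc]
    exact mem_inf.2 ⟨w.2, mem_centralizer_singleton_iff.2 (hwc c hcQ).symm⟩
  have hwo : orderOf (w : S) = 3 := by
    have h1 : orderOf (w : S) ∣ 3 := by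
      rw [← hc]
      exact orderOf_dvd_of_mem_zpowers hwD
    rcases (Nat.dvd_prime Nat.prime_three).1 h1 with h2 | h2
    · exfalso
      apply hw1
      apply Subtype.ext
      exact Subtype.ext (orderOf_eq_one_iff.1 h2)
    · exact h2
  have hcw : zpowers (w : S) = zpowers c := by
    apply eq_of_le_of_card_ge ((zpowers_le).2 hwD)
    rw [Nat.card_zpowers, Nat.card_zpowers, hc, hwo]
  obtain ⟨k, hk⟩ := mem_zpowers_iff.1 (show c ∈ zpowers (w : S) by rw [hcw]; exact mem_zpowers c)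
  have h1 : Q ≤ Q ⊓ centralizer {c} := by
    refine le_inf le_rfl fun y hy => ?_
    rw [mem_centralizer_singleton_iff, ← hk]
    exact ((show Commute y (w : S) from hwc y hy).zpow_right k).eq
  have h2 := card_dvd_of_le h1
  rw [hQc, hj] at h2
  norm_num at h2

end Cfsg.Agent.H153.RM
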