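import Cfsg.Agent.H859.ClassEleven
import Cfsg.Agent.H859.CentC
import Cfsg.Agent.NotCT.Orders

/-!
# The Sylow 11-subgroups of `J₄` are TI (helper153)
-/

set_option autoImplicit false

namespace Cfsg.Agent.H153.RM.JFourTI

open Cfsg Subgroup Cfsg.Agent.H859 Cfsg.Agent.H859.SylEleven Cfsg.Agent.H859.ClassEleven
open Cfsg.Agent.H859.NU (U)

theorem hc : Nat.card Spor.J4 = 86775571046077562880 := NotCT.Orders.j4 ⟨MulEquiv.refl _⟩

theorem hfin : Finite Spor.J4 := Nat.finite_of_card_ne_zero (by rw [hc]; norm_num)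

theorem pow_eleven {w : Spor.J4} (hw : w ∈ U) : w ^ 11 = 1 := Heis.pow_p NU.rel (by norm_num) hw

/-- an element of `U` conjugate to `c` is a power of `c` -/
theorem mem_zpowers_c {w : Spor.J4} (hw : w ∈ U) (h : IsConj w NU.c) : w ∈ zpowers NU.c := by
  by_contra hn
  have h1 : w ∈ orb N x := by
    rw [orb_eq]
    exact ⟨hw, hn⟩
  obtain ⟨n, -, hn⟩ := h1
  have h2 : IsConj x w := isConj_iff.2 ⟨n, hn.symm⟩
  exact not_isConj (h2.trans h)

/-- the class of an element of `U` outside `⟨c⟩` -/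
theorem card_cent {w : Spor.J4} (hw : w ∈ U) (hn : w ∉ zpowers NU.c) :
    Nat.card (centralizer ({w} : Set Spor.J4)) = 242 := by
  have h1 : w ∈ orb N x := by
    rw [orb_eq]
    exact ⟨hw, hn⟩
  obtain ⟨n, -, hn⟩ := h1
  have h2 : IsConj x w := isConj_iff.2 ⟨n, hn.symm⟩
  rw [← card_centralizer_conj h2, card_centralizer_x_eq]

theorem mem_N_of_conj_c {g : Spor.J4} (h : g * NU.c * g⁻¹ ∈ zpowers NU.c) : g ∈ N := by
  have := hfin
  apply CentC.normalizer_c_le
  have h1 : (zpowers NU.c).map (MulAut.conj g).toMonoidHom = zpowers NU.c := by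
    refine eq_of_le_of_card_ge ?_ ?_
    · rintro _ ⟨y, ⟨m, rfl⟩, rfl⟩
      show g * (NU.c ^ m) * g⁻¹ ∈ _
      rw [← conj_zpow]
      exact zpow_mem h m
    · rw [card_map_of_injective (MulAut.conj g).injective]
  rw [mem_normalizer_iff]
  intro y
  constructor
  · intro hy
    have h2 : g * y * g⁻¹ ∈ (zpowers NU.c).map (MulAut.conj g).toMonoidHom := ⟨y, hy, rfl⟩
    rwa [h1] at h2
  · intro hy
    have h2 : g * y * g⁻¹ ∈ (zpowers NU.c).map (MulAut.conj g).toMonoidHom := by rwa [h1]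
    obtain ⟨z, hz, hz'⟩ := h2
    have h3 : z = y := (MulAut.conj g).injective hz'
    rwa [← h3]

/-- **`U` is a TI subgroup** -/
theorem ti_U {g w : Spor.J4} (hw : w ∈ U) (hw1 : w ≠ 1) (hg : g⁻¹ * w * g ∈ U) : g ∈ N := by
  have := hfin
  have ho : orderOf NU.c = 11 := orderOf_c
  have hcom : (g * NU.c * g⁻¹) * w = w * (g * NU.c * g⁻¹) := by
    have h1 := mem_centralizer_singleton_iff.1 (U_le_centralizer (mem_zpowers NU.c) hg)
    calc g * NU.c * g⁻¹ * w = g * (NU.c * (g⁻¹ * w * g)) * g⁻¹ := by group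
      _ = g * (g⁻¹ * w * g * NU.c) * g⁻¹ := by rw [h1]
      _ = w * (g * NU.c * g⁻¹) := by group
  by_cases hz : w ∈ zpowers NU.c
  · -- `w` is a power of `c`
    have h1 : IsConj w NU.c := isConj_c hz hw1
    have h2 : g⁻¹ * w * g ∈ zpowers NU.c := by
      refine mem_zpowers_c hg (IsConj.trans (isConj_iff.2 ⟨g, ?_⟩) h1)
      group
    have h11 : Fact (Nat.Prime 11) := ⟨by norm_num⟩
    have h3 : (⟨g⁻¹ * w * g, h2⟩ : zpowers NU.c) ≠ 1 := by
      intro h
      apply hw1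
      have h4 : g⁻¹ * w * g = 1 := congrArg Subtype.val h
      calc w = g * (g⁻¹ * w * g) * g⁻¹ := by group
        _ = 1 := by rw [h4]; group
    have h4 := mem_zpowers_of_prime_card (G := zpowers NU.c) (p := 11) (by rw [Nat.card_zpowers, ho]) h3
      (g' := ⟨NU.c, mem_zpowers _⟩)
    obtain ⟨m, hm⟩ := mem_zpowers_iff.1 h4
    have h5 : (g⁻¹ * w * g) ^ m = NU.c := congrArg Subtype.val hm
    apply mem_N_of_conj_c
    have h6 : g * NU.c * g⁻¹ = w ^ m := by
      rw [← h5, ← conj_zpow]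
      congr 1
      group
    rw [h6]
    exact zpow_mem hz m
  · -- `w` is in the other class
    set C := centralizer ({w} : Set Spor.J4) with hCdef
    set D : Subgroup Spor.J4 := C ⊓ U with hD
    have h242 : Nat.card C = 242 := card_cent hw hz
    have hcD : zpowers NU.c ≤ D := by
      rw [zpowers_le, hD, mem_inf]
      refine ⟨?_, c_mem⟩
      rw [mem_centralizer_singleton_iff]
      exact (mem_centralizer_singleton_iff.1 (U_le_centralizer (mem_zpowers NU.c) hw)).symm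
    have hwD : w ∈ D := by
      rw [hD, mem_inf]
      exact ⟨mem_centralizer_singleton_iff.2 rfl, hw⟩
    have hd : Nat.card D ∣ 121 := by
      have h1 : Nat.card D ∣ 242 := by
        rw [← h242]
        exact card_dvd_of_le inf_le_left
      have h2 : Nat.card D ∣ 1331 := by
        have h3 : Nat.card U = 1331 := by rw [NU.card_U]; norm_num
        have h4 : Nat.card D ∣ Nat.card U := card_dvd_of_le inf_le_right
        rwa [h3] at h4
      have h3 := Nat.dvd_gcd h1 h2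
      rwa [show Nat.gcd 242 1331 = 121 by norm_num] at h3
    have hlt : 11 < Nat.card D := by
      have h1 : Nat.card (zpowers NU.c) = 11 := by rw [Nat.card_zpowers, ho]
      by_contra hle
      have h2 : zpowers NU.c = D := eq_of_le_of_card_ge hcD (by omega)
      exact hz (h2 ▸ hwD)
    have h121 : Nat.card D = 121 := by
      have h1 : Nat.card D ∣ 11 ^ 2 := by norm_num; exact hd
      obtain ⟨k, hk, hk'⟩ := (Nat.dvd_prime_pow (by norm_num)).1 h1
      rw [hk'] at hlt ⊢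
      interval_cases k
      · norm_num at hlt
      · norm_num at hlt
      · norm_num
    -- the square of `g c g⁻¹` is in `D`
    have hcC : g * NU.c * g⁻¹ ∈ C := by
      rw [hCdef, mem_centralizer_singleton_iff]
      exact hcom
    have hidx : (D.subgroupOf C).index = 2 := by
      have h1 := (D.subgroupOf C).card_mul_index
      rw [Nat.card_congr (subgroupOfEquivOfLe (inf_le_left : D ≤ C)).toEquiv, h121, h242] at h1
      omega
    have hsq := Subgroup.sq_mem_of_index_two hidx ⟨g * NU.c * g⁻¹, hcC⟩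
    have h2 : (g * NU.c * g⁻¹) ^ 2 ∈ D := by
      rw [mem_subgroupOf] at hsq
      exact hsq
    have h3 : g * NU.c * g⁻¹ ∈ D := by
      have h4 : (g * NU.c * g⁻¹) ^ 11 = 1 := by
        rw [conj_pow, ← ho, pow_orderOf_eq_one]
        group
      have h5 : g * NU.c * g⁻¹ = ((g * NU.c * g⁻¹) ^ 2) ^ 6 := by
        rw [← pow_mul, show 2 * 6 = 11 + 1 from rfl, pow_succ, h4, one_mul]
      rw [h5]
      exact pow_mem h2 6
    apply mem_N_of_conj_c
    refine mem_zpowers_c (mem_inf.1 h3).2 ?_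
    exact (isConj_iff.2 ⟨g, rfl⟩ : IsConj NU.c (g * NU.c * g⁻¹)).symm

/-- **the Sylow 11-subgroups of `J₄` are TI** -/
theorem ti {P : Subgroup Spor.J4} (hP : Nat.card P = 11 ^ 3) {g : Spor.J4}
    (hg : P ⊓ P.map (MulAut.conj g).toMonoidHom ≠ ⊥) : g ∈ normalizer (P : Set Spor.J4) := by
  have := hfin
  have h11 : Fact (Nat.Prime 11) := ⟨by norm_num⟩
  -- `P` is conjugate to `U`
  obtain ⟨T, hT⟩ : ∃ T : Sylow 11 Spor.J4, (T : Subgroup Spor.J4) = U :=
    ⟨isPGroup_U.toSylow not_dvd_U, rfl⟩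
  obtain ⟨R, hR⟩ : ∃ R : Sylow 11 Spor.J4, (R : Subgroup Spor.J4) = P := by
    refine ⟨(IsPGroup.of_card hP).toSylow ?_, rfl⟩
    intro h
    apply not_dvd_U
    have h1 := P.card_mul_index
    have h2 := (U : Subgroup Spor.J4).card_mul_index
    rw [NU.card_U] at h2
    rw [hP] at h1
    have h3 : P.index = (U : Subgroup Spor.J4).index := Nat.eq_of_mul_eq_mul_left (by norm_num) (h1.trans h2.symm)
    rwa [← h3]
  obtain ⟨k, hk⟩ := MulAction.exists_smul_eq Spor.J4 T R
  have hPU : ∀ y, y ∈ P ↔ k⁻¹ * y * k ∈ U := by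
    intro y
    have h1 : P = U.map (MulAut.conj k).toMonoidHom := by
      rw [← hR, ← hk, ← hT]
      rfl
    rw [h1]
    constructor
    · rintro ⟨z, hz, rfl⟩
      show k⁻¹ * (k * z * k⁻¹) * k ∈ U
      have h2 : k⁻¹ * (k * z * k⁻¹) * k = z := by group
      rwa [h2]
    · intro h
      refine ⟨_, h, ?_⟩
      show k * (k⁻¹ * y * k) * k⁻¹ = y
      group
  obtain ⟨y, hy, hy1⟩ : ∃ y ∈ P ⊓ P.map (MulAut.conj g).toMonoidHom, y ≠ 1 := by
    by_contra hcon
    push Not at hcon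
    exact hg ((eq_bot_iff_forall _).2 hcon)
  obtain ⟨hyP, z, hz, hzy⟩ := mem_inf.1 hy
  have hzy' : g * z * g⁻¹ = y := hzy
  have h1 : k⁻¹ * g * k ∈ N := by
    refine ti_U (w := k⁻¹ * y * k) ((hPU y).1 hyP) ?_ ?_
    · intro h
      apply hy1
      calc y = k * (k⁻¹ * y * k) * k⁻¹ := by group
        _ = 1 := by rw [h]; group
    · have h2 := (hPU z).1 hz
      have h3 : (k⁻¹ * g * k)⁻¹ * (k⁻¹ * y * k) * (k⁻¹ * g * k) = k⁻¹ * z * k := by
        rw [← hzy']; group
      rwa [h3]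
  rw [mem_normalizer_iff]
  intro v
  show v ∈ P ↔ g * v * g⁻¹ ∈ P
  rw [hPU, hPU]
  have h2 := mem_normalizer_iff.1 h1 (k⁻¹ * v * k)
  have h3 : k⁻¹ * g * k * (k⁻¹ * v * k) * (k⁻¹ * g * k)⁻¹ = k⁻¹ * (g * v * g⁻¹) * k := by group
  rw [h3] at h2
  exact h2

/-- **the Sylow 11-subgroups of `J₄` are TI** -/
theorem j4_ti {S : Type*} [Group S] (h : Spor.IsoJ4 S) (P : Subgroup S)
    (hP : Nat.card P = 11 ^ 3) (g : S) (hg : P ⊓ P.map (MulAut.conj g).toMonoidHom ≠ ⊥) :
    g ∈ Subgroup.normalizer (P : Set S) := by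
  obtain ⟨e⟩ := h
  have h1 : e g ∈ normalizer ((P.map e.toMonoidHom : Subgroup Spor.J4) : Set Spor.J4) := by
    refine ti (by rw [card_map_of_injective e.injective, hP]) ?_
    intro hb
    apply hg
    rw [eq_bot_iff_forall] at hb ⊢
    intro y hy
    obtain ⟨hy1, z, hz, hzy⟩ := mem_inf.1 hy
    have hzy' : g * z * g⁻¹ = y := hzy
    have h2 := hb (e y) ⟨⟨y, hy1, rfl⟩, e z, ⟨z, hz, rfl⟩, ?_⟩
    · exact (MulEquiv.map_eq_one_iff e).1 h2
    · show e g * e z * (e g)⁻¹ = e y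
      rw [← hzy', map_mul, map_mul, map_inv]
  rw [mem_normalizer_iff] at h1 ⊢
  intro y
  have hm : ∀ v : S, e v ∈ P.map e.toMonoidHom ↔ v ∈ P := by
    intro v
    constructor
    · rintro ⟨u, hu, hu'⟩
      have : u = v := e.injective hu'
      rwa [← this]
    · intro hv
      exact ⟨v, hv, rfl⟩
  have h2 := h1 (e y)
  rw [← map_inv, ← map_mul, ← map_mul] at h2
  have h3 : e y ∈ P.map e.toMonoidHom ↔ e (g * y * g⁻¹) ∈ P.map e.toMonoidHom := h2
  rwa [hm, hm] at h3

end Cfsg.Agent.H153.RM.JFourTI
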